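import Cfsg.Agent.H966.U33.Orb

/-!
# The orbits on `P ∖ ⟨y⟩` (helper966, S5525 box L2)
-/

set_option autoImplicit false

namespace Cfsg.Agent.H966.U33.Orb

open Cfsg.Agent.H863.U33

section

variable {G : Type*} [Group G] {y : G} {e : Fin 8 → G} {t : G} {w : Fin 6 → G} {k : Fin 2 → G} {n : G}

theorem mem_y (y : G) (e : Fin 8 → G) (t : G) (w : Fin 6 → G) (k : Fin 2 → G) : y ∈ KK y e t w k :=
  Subgroup.subset_closure (Or.inl (Or.inl (Or.inl (Or.inl rfl))))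

theorem mem_e (y : G) (e : Fin 8 → G) (t : G) (w : Fin 6 → G) (k : Fin 2 → G) (j : Fin 8) : e j ∈ KK y e t w k :=
  Subgroup.subset_closure (Or.inl (Or.inl (Or.inl (Or.inr ⟨j, rfl⟩))))

theorem mem_t (y : G) (e : Fin 8 → G) (t : G) (w : Fin 6 → G) (k : Fin 2 → G) : t ∈ KK y e t w k :=
  Subgroup.subset_closure (Or.inl (Or.inl (Or.inr rfl)))

theorem mem_w (y : G) (e : Fin 8 → G) (t : G) (w : Fin 6 → G) (k : Fin 2 → G) (a : Fin 6) : w a ∈ KK y e t w k :=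
  Subgroup.subset_closure (Or.inl (Or.inr ⟨a, rfl⟩))

theorem mem_k (y : G) (e : Fin 8 → G) (t : G) (w : Fin 6 → G) (k : Fin 2 → G) (c : Fin 2) : k c ∈ KK y e t w k :=
  Subgroup.subset_closure (Or.inr ⟨c, rfl⟩)

theorem e_comm (h : TB y e t w k n) {i j : Fin 8} (hij : fm i j = 0) : e i * e j = e j * e i := by
  have h1 := h.ee i j
  rw [hij] at h1
  simpa using h1

/-- conjugation by the powers of `e 1` -/
theorem conj_pow (h : TB y e t w k n) (j : ℕ) : e 0 * e 1 ^ j = y ^ j * e 1 ^ j * e 0 := by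
  have hy : Commute (e 1) y := h.ey 1
  have h1 : e 0 * e 1 = y * e 1 * e 0 := by
    have h2 := h.ee 0 1
    have h3 : (fm 0 1).val = 1 := by decide
    rw [h3, pow_one] at h2
    exact h2
  induction j with
  | zero => simp
  | succ j ih =>
    have h4 : e 1 ^ j * y = y * e 1 ^ j := (hy.pow_left j).eq
    calc e 0 * e 1 ^ (j + 1) = (e 0 * e 1 ^ j) * e 1 := by rw [pow_succ, mul_assoc]
      _ = y ^ j * e 1 ^ j * (e 0 * e 1) := by rw [ih]; group
      _ = y ^ j * (e 1 ^ j * y) * e 1 * e 0 := by rw [h1]; group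
      _ = y ^ (j + 1) * e 1 ^ (j + 1) * e 0 := by rw [h4]; group

theorem conj_pow' (h : TB y e t w k n) (j : ℕ) {q : G} (hq : Commute (e 1) q) (hyq : Commute y q) (b : ℕ) :
    (e 1 ^ j)⁻¹ * (e 0 * q * y ^ b) * (e 1 ^ j)⁻¹⁻¹ = e 0 * q * y ^ (j + b) := by
  have c1 : Commute (e 1) y := h.ey 1
  have c0 : Commute (e 0) y := h.ey 0
  have hy1 : Commute (e 1 ^ j) (y ^ b) := (c1.pow_left j).pow_right b
  have hyj : Commute (e 1 ^ j) (y ^ j) := (c1.pow_left j).pow_right j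
  have hqj : Commute (e 1 ^ j) q := hq.pow_left j
  have hy0 : Commute (e 0 * q) (y ^ j) := (c0.mul_left hyq.symm).pow_right j
  rw [inv_inv, mul_assoc, inv_mul_eq_iff_eq_mul]
  have h1 : e 0 * q * y ^ b * e 1 ^ j = e 0 * e 1 ^ j * (q * y ^ b) := by
    rw [mul_assoc (e 0 * q), ← hy1.eq, mul_assoc (e 0), ← mul_assoc q, ← hqj.eq]
    group
  rw [h1, conj_pow h, ← hyj.eq, pow_add, ← mul_assoc (e 0 * q), hy0.eq]
  simp only [mul_assoc]

/-- Killing the constant. -/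
theorem kill (h : TB y e t w k n) {q : G} (hq : Commute (e 1) q) (hyq : Commute y q) (b : ZMod 3) :
    ∃ x ∈ KK y e t w k, x * (e 0 * q * y ^ b.val) * x⁻¹ = e 0 * q := by
  refine ⟨(e 1 ^ (3 - b.val))⁻¹, inv_mem (pow_mem (mem_e y e t w k 1) _), ?_⟩
  rw [conj_pow' h _ hq hyq]
  have h1 : 3 - b.val + b.val = 3 := Nat.sub_add_cancel (ZMod.val_lt b).le
  rw [h1, h.y3, mul_one]

theorem nf_A (y : G) (e : Fin 8 → G) (b : ZMod 3) : nf y e ![1, 0, 0, 0, 0, 0, 0, 0] b = e 0 * 1 * y ^ b.val := by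
  have h1 : (1 : ZMod 3).val = 1 := rfl
  simp [nf, h1]

theorem nf_B (y : G) (e : Fin 8 → G) (b : ZMod 3) : nf y e vB b = e 0 * (e 4 ^ 2 * e 7) * y ^ b.val := by
  have h0 : (vB 0).val = 1 := rfl
  have h1 : (vB 1).val = 0 := rfl
  have h2 : (vB 2).val = 0 := rfl
  have h3 : (vB 3).val = 0 := rfl
  have h4 : (vB 4).val = 2 := rfl
  have h5 : (vB 5).val = 0 := rfl
  have h6 : (vB 6).val = 0 := rfl
  have h7 : (vB 7).val = 1 := rfl
  simp only [nf, h0, h1, h2, h3, h4, h5, h6, h7, pow_zero, pow_one, mul_one]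
  group

/-- the property for the induction -/
def CC (y : G) (e : Fin 8 → G) (t : G) (w : Fin 6 → G) (k : Fin 2 → G) (v : Fin 8 → ZMod 3) : Prop :=
  ∀ b, ∃ x ∈ KK y e t w k, x * nf y e v b * x⁻¹ = e 0 ∨ x * nf y e v b * x⁻¹ = nf y e vB 0

theorem CC_A (h : TB y e t w k n) : CC y e t w k ![1, 0, 0, 0, 0, 0, 0, 0] := by
  intro b
  obtain ⟨x, hx, h1⟩ := kill h (Commute.one_right (e 1)) (Commute.one_right y) b
  refine ⟨x, hx, Or.inl ?_⟩
  rw [nf_A, h1, mul_one]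

theorem CC_B (h : TB y e t w k n) : CC y e t w k vB := by
  intro b
  have c4 : Commute (e 1) (e 4) := e_comm h (by decide)
  have c7 : Commute (e 1) (e 7) := e_comm h (by decide)
  have y4 : Commute y (e 4) := (h.ey 4).symm
  have y7 : Commute y (e 7) := (h.ey 7).symm
  obtain ⟨x, hx, h1⟩ := kill h (q := e 4 ^ 2 * e 7) ((c4.pow_right 2).mul_right c7) ((y4.pow_right 2).mul_right y7) b
  refine ⟨x, hx, Or.inr ?_⟩
  rw [nf_B, nf_B, h1, ZMod.val_zero, pow_zero, mul_one]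

theorem CC_step {s : G} {M : Fin 8 → Fin 8 → ZMod 3} (hs : s ∈ KK y e t w k) (hM : Acts y e s M)
    {v : Fin 8 → ZMod 3} (hv : CC y e t w k fun j => ∑ i, v i * M i j) : CC y e t w k v := by
  intro b
  obtain ⟨b', hb'⟩ := hM v b
  obtain ⟨x, hx, h1⟩ := hv b'
  refine ⟨x * s⁻¹, mul_mem hx (inv_mem hs), ?_⟩
  have h2 : x * s⁻¹ * nf y e v b * (x * s⁻¹)⁻¹ = x * (s⁻¹ * nf y e v b * s) * x⁻¹ := by group
  rw [h2, hb']
  exact h1

end

/-- **L2.** -/
theorem stOrb (hNF : StNF) (hAct : StAct) : StOrb := by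
  intro G _ y e t w k n h p hp hpy
  obtain ⟨hP, -, -⟩ := hNF h
  obtain ⟨-, hAw, hAk, -⟩ := hAct h
  obtain ⟨v, b, rfl⟩ := (hP p).1 hp
  have hv : v ≠ 0 := by
    rintro rfl
    apply hpy
    have h1 : nf y e 0 b = y ^ b.val := by simp [nf]
    rw [h1]
    exact ⟨(b.val : ℤ), zpow_natCast y b.val⟩
  exact orb_ind (CC y e t w k) (CC_A h) (CC_B h) (fun a v hv => CC_step (mem_w y e t w k a) (hAw a) hv)
    (fun c v hv => CC_step (mem_k y e t w k c) (hAk c) hv) v hv b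

end Cfsg.Agent.H966.U33.Orb
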